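import Mathlib

/-! Connected components of prime spectra via idempotents. -/

set_option autoImplicit false

universe u

namespace Groth.Agent.SpecIdem

variable {R : Type u} [CommRing R]

theorem exists_idem_mem_of_mem_span (P : Ideal R) {x : R}
    (hx : x ∈ Ideal.span {e : R | IsIdempotentElem e ∧ e ∈ P}) :
    ∃ g, IsIdempotentElem g ∧ g ∈ P ∧ g * x = x := by
  induction hx using Submodule.span_induction with
  | mem y hy => exact ⟨y, hy.1, hy.2, hy.1⟩
  | zero => exact ⟨0, IsIdempotentElem.zero, zero_mem _, mul_zero _⟩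
  | add y z _ _ ihy ihz =>
    obtain ⟨g, hg, hgP, hgy⟩ := ihy
    obtain ⟨h, hh, hhP, hhz⟩ := ihz
    refine ⟨g + h - g * h, ?_, sub_mem (add_mem hgP hhP) (P.mul_mem_right _ hgP), ?_⟩
    · have h1 : g * g = g := hg
      have h2 : h * h = h := hh
      unfold IsIdempotentElem
      linear_combination (1 - 2 * h + h * h) * h1 + (1 - g) * h2
    · linear_combination (1 - h) * hgy + (1 - g) * hhz
  | smul a y _ ih =>
    obtain ⟨g, hg, hgP, hgy⟩ := ih
    exact ⟨g, hg, hgP, by rw [smul_eq_mul]; linear_combination a * hgy⟩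

theorem idem_mem_or_one_sub_mem (P : Ideal R) [P.IsPrime] {e : R} (he : IsIdempotentElem e) :
    e ∈ P ∨ 1 - e ∈ P :=
  (‹P.IsPrime›.mem_or_mem (show e * (1 - e) ∈ P by
    have h1 : e * e = e := he
    rw [show e * (1 - e) = 0 by linear_combination -h1]; exact zero_mem _))

theorem isPreconnected_zeroLocus (p : PrimeSpectrum R) :
    IsPreconnected (PrimeSpectrum.zeroLocus {e : R | IsIdempotentElem e ∧ e ∈ p.asIdeal}) := by
  set I := Ideal.span {e : R | IsIdempotentElem e ∧ e ∈ p.asIdeal} with hI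
  have hpre : PreconnectedSpace (PrimeSpectrum (R ⧸ I)) := by
    refine preconnectedSpace_iff_clopen.mpr fun s hs => ?_
    obtain ⟨eb, heb, rfl⟩ := PrimeSpectrum.isClopen_iff.mp hs
    obtain ⟨e, rfl⟩ := Ideal.Quotient.mk_surjective eb
    have hmem : e * e - e ∈ I := by
      rw [← Ideal.Quotient.eq_zero_iff_mem, map_sub, map_mul, heb.eq, sub_self]
    obtain ⟨g, hg, hgP, hgx⟩ := exists_idem_mem_of_mem_span _ hmem
    have hgI : g ∈ I := Ideal.subset_span ⟨hg, hgP⟩
    have hid : IsIdempotentElem (e * (1 - g)) := by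
      have h1 : g * g = g := hg
      unfold IsIdempotentElem
      linear_combination (e * e) * h1 - hgx
    have heq : Ideal.Quotient.mk I e = Ideal.Quotient.mk I (e * (1 - g)) := by
      rw [Ideal.Quotient.eq, show e - e * (1 - g) = e * g by ring]
      exact Ideal.mul_mem_left _ _ hgI
    rcases idem_mem_or_one_sub_mem p.asIdeal hid with h | h
    · left
      have : Ideal.Quotient.mk I (e * (1 - g)) = 0 :=
        Ideal.Quotient.eq_zero_iff_mem.mpr (Ideal.subset_span ⟨hid, h⟩)
      simp [heq, this]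
    · right
      have : Ideal.Quotient.mk I (1 - e * (1 - g)) = 0 :=
        Ideal.Quotient.eq_zero_iff_mem.mpr (Ideal.subset_span ⟨hid.one_sub, h⟩)
      rw [map_sub, map_one, sub_eq_zero] at this
      simp [heq, ← this]
  have h2 : IsPreconnected (Set.range (PrimeSpectrum.comap (Ideal.Quotient.mk I))) :=
    isPreconnected_range (PrimeSpectrum.continuous_comap _)
  rwa [range_comap_of_surjective _ _ Ideal.Quotient.mk_surjective, Ideal.mk_ker, hI,
    PrimeSpectrum.zeroLocus_span] at h2

theorem connectedComponent_eq_zeroLocus (p : PrimeSpectrum R) :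
    connectedComponent p = PrimeSpectrum.zeroLocus {e : R | IsIdempotentElem e ∧ e ∈ p.asIdeal} := by
  refine le_antisymm (fun q hq e he => ?_)
    ((isPreconnected_zeroLocus p).subset_connectedComponent fun e he => he.2)
  have hcl : IsClopen (PrimeSpectrum.zeroLocus ({e} : Set R)) :=
    PrimeSpectrum.isClopen_iff_zeroLocus.mpr ⟨e, he.1, rfl⟩
  have hp : p ∈ PrimeSpectrum.zeroLocus ({e} : Set R) := by simpa using he.2
  simpa using hcl.connectedComponent_subset hp hq

theorem subset_clopen_compl_of_notMem {T : Set (PrimeSpectrum R)} (hT : IsClosed T)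
    (hTc : ∀ x ∈ T, connectedComponent x ⊆ T) {y : PrimeSpectrum R} (hy : y ∉ T) :
    ∃ U : Set (PrimeSpectrum R), IsClopen U ∧ T ⊆ U ∧ y ∉ U := by
  classical
  obtain ⟨t, ht⟩ := hT.isCompact.elim_finite_subfamily_closed
    (fun e : {e : R // IsIdempotentElem e ∧ e ∈ y.asIdeal} => PrimeSpectrum.zeroLocus ({e.1} : Set R))
    (fun e => PrimeSpectrum.isClosed_zeroLocus _) (by
      refine Set.eq_empty_iff_forall_notMem.mpr fun x ⟨hxT, hx⟩ => hy ?_
      have hxc : x ∈ connectedComponent y := by
        rw [connectedComponent_eq_zeroLocus]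
        intro e he
        simpa using Set.mem_iInter.mp hx ⟨e, he⟩
      exact hTc x hxT (connectedComponent_eq hxc ▸ mem_connectedComponent))
  refine ⟨(⋂ e ∈ t, PrimeSpectrum.zeroLocus ({e.1} : Set R))ᶜ, (isClopen_biInter_finset fun e _ =>
    PrimeSpectrum.isClopen_iff_zeroLocus.mpr ⟨e.1, e.2.1, rfl⟩).compl, ?_, ?_⟩
  · exact fun x hx hx' => Set.eq_empty_iff_forall_notMem.mp ht x ⟨hx, hx'⟩
  · exact fun h => h (Set.mem_iInter₂.mpr fun e _ => by simpa using e.2.2)

end Groth.Agent.SpecIdem
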